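import Groth.Prelude.Def_Pi1
import Groth.Agent.NormFinVarLib.Basic
import Groth.Agent.Unram17Lib.SmoothNormal
import Groth.Agent.WeilExtLib.Basic
import Groth.Agent.SweepSix.NormSect

/-! Finiteness of the normalization of a normal noetherian scheme in an etale scheme. -/

set_option autoImplicit false
universe u

open CategoryTheory AlgebraicGeometry

namespace NeronNormLib

/-- Integral closures of normal noetherian domains in unramified field extensions. -/
theorem finite_closure_unramified (R : Type u) [CommRing R] [IsDomain R] [IsNoetherianRing R] [IsIntegrallyClosed R]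
    (L : Type u) [Field L] [Algebra R L] [FaithfulSMul R L] [Algebra.FormallyUnramified R L]
    [Algebra.EssFiniteType R L] : Module.Finite R (integralClosure R L) := by
  let K := FractionRing R
  letI : Algebra K L := FractionRing.liftAlgebra R L
  haveI : IsScalarTower R K L := FractionRing.isScalarTower_liftAlgebra R L
  haveI : Algebra.FormallyUnramified K L := Algebra.FormallyUnramified.of_restrictScalars R K L
  haveI : Algebra.EssFiniteType K L := Algebra.EssFiniteType.of_comp R K L
  haveI : FiniteDimensional K L := Algebra.FormallyUnramified.finite_of_free K L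
  haveI : Algebra.IsSeparable K L := Algebra.FormallyUnramified.isSeparable K L
  exact IsIntegralClosure.finite R K L (integralClosure R L)

/-- Integral closures of normal noetherian domains in etale algebras. -/
theorem finite_closure_etale (R : Type u) [CommRing R] [IsDomain R] [IsNoetherianRing R] [IsIntegrallyClosed R]
    (D : Type u) [CommRing D] [Algebra R D] [Algebra.Etale R D] [IsReduced D] :
    Module.Finite R (integralClosure R D) := by
  haveI : IsNoetherianRing D := Algebra.FiniteType.isNoetherianRing R D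
  haveI : Finite (minimalPrimes D) := (minimalPrimes.finite_of_isNoetherianRing D).to_subtype
  haveI : ∀ p : minimalPrimes D, p.1.IsPrime := fun p => p.2.1.1
  refine NormFinVarLib.finite_closure_of_injective_pi (fun p : minimalPrimes D => FractionRing (D ⧸ p.1))
    (fun p => (IsScalarTower.toAlgHom _ (D ⧸ p.1) (FractionRing (D ⧸ p.1))).comp (Ideal.Quotient.mkₐ _ p.1))
    (fun x y h => ?_) (fun p => ?_)
  · have h0 : x - y ∈ sInf (minimalPrimes D) := Ideal.mem_sInf.2 fun {q} hq =>
      (Ideal.Quotient.eq).1 (IsFractionRing.injective (D ⧸ q) (FractionRing (D ⧸ q)) (h ⟨q, hq⟩))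
    rw [show sInf (minimalPrimes D) = (⊥ : Ideal D).radical from Ideal.sInf_minimalPrimes] at h0
    obtain ⟨n, hn⟩ := h0
    exact sub_eq_zero.1 (IsReduced.eq_zero _ ⟨n, Ideal.mem_bot.1 hn⟩)
  · haveI : Algebra.FormallyUnramified R (D ⧸ p.1) :=
      Algebra.FormallyUnramified.of_surjective (Ideal.Quotient.mkₐ R p.1) Ideal.Quotient.mk_surjective
    haveI : Algebra.FormallyUnramified (D ⧸ p.1) (FractionRing (D ⧸ p.1)) :=
      Algebra.FormallyUnramified.of_isLocalization (nonZeroDivisors (D ⧸ p.1))
    haveI : Algebra.FormallyUnramified R (FractionRing (D ⧸ p.1)) :=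
      Algebra.FormallyUnramified.comp R (D ⧸ p.1) _
    haveI : Algebra.EssFiniteType (D ⧸ p.1) (FractionRing (D ⧸ p.1)) :=
      Algebra.EssFiniteType.of_isLocalization _ (nonZeroDivisors (D ⧸ p.1))
    haveI : Algebra.EssFiniteType R (FractionRing (D ⧸ p.1)) := Algebra.EssFiniteType.comp _ (D ⧸ p.1) _
    haveI : FaithfulSMul R (FractionRing (D ⧸ p.1)) := by
      refine (faithfulSMul_iff_algebraMap_injective _ _).2 ((injective_iff_map_eq_zero _).2 fun r hr => ?_)
      rw [IsScalarTower.algebraMap_apply R (D ⧸ p.1) (FractionRing (D ⧸ p.1))] at hr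
      have h1 : algebraMap R D r ∈ p.1 :=
        Ideal.Quotient.eq_zero_iff_mem.1 (IsFractionRing.injective (D ⧸ p.1) _ (hr.trans (map_zero _).symm))
      by_contra hne
      have h2 : IsSMulRegular D r :=
        Module.Flat.isSMulRegular_of_nonZeroDivisors (mem_nonZeroDivisors_of_ne_zero hne)
      refine Set.disjoint_left.1 (Ideal.disjoint_nonZeroDivisors_of_mem_minimalPrimes p.2) h1
        (mem_nonZeroDivisors_iff_right.2 fun x hx => h2 ?_)
      simp only [Algebra.smul_def, mul_zero]
      rwa [mul_comm]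
    exact finite_closure_unramified R _

/-- A criterion for finiteness of the normalization, on a cover. -/
theorem isFinite_of_closure_cover {X S : Scheme.{u}} (f : X ⟶ S) [QuasiCompact f] [QuasiSeparated f]
    (h : ∀ s : S, ∃ U : S.Opens, IsAffineOpen U ∧ s ∈ U ∧
      (letI := (f.app U).hom.toAlgebra
       Module.Finite Γ(S, U) (integralClosure Γ(S, U) Γ(X, f ⁻¹ᵁ U)))) :
    IsFinite f.fromNormalization := by
  choose U hU hsU hfin using h
  refine (HasAffineProperty.iff_of_iSup_eq_top (P := @IsFinite) (fun s => (⟨U s, hU s⟩ : S.affineOpens))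
    (top_unique fun s _ => TopologicalSpace.Opens.mem_iSup.2 ⟨s, hsU s⟩)).2 fun s => ?_
  refine ⟨(hU s).preimage f.fromNormalization, ?_⟩
  suffices H : (f.fromNormalization.app (U s)).hom.Finite by
    have H2 : (f.fromNormalization.app ((U s).ι ''ᵁ ⊤)).hom.Finite := by
      rwa [Scheme.Opens.ι_image_top]
    rw [morphismRestrict_appTop]
    exact (RingHom.finite_respectsIso.cancel_right_isIso _ _).2 H2
  letI : Algebra Γ(S, U s) Γ(X, f ⁻¹ᵁ U s) := (f.app (U s)).hom.toAlgebra
  rw [Scheme.Hom.fromNormalization_app f (hU s)]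
  exact (RingHom.Finite.of_surjective _ (f.normalizationObjIso (hU s)).symm.commRingCatIsoToRingEquiv.surjective).comp
    (RingHom.finite_algebraMap.2 (hfin s))

/-- The normalization of a normal noetherian scheme in an etale scheme is finite. -/
theorem isFinite_fromNormalization_etale {X S : Scheme.{u}} [IsNoetherian S] (hS : Pi1.IsNormalScheme S)
    (f : X ⟶ S) [Etale f] [QuasiCompact f] [QuasiSeparated f] [IsReduced X] :
    IsFinite f.fromNormalization := by
  refine isFinite_of_closure_cover f fun s => ?_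
  haveI := (hS s).1
  obtain ⟨W, hsW, -, -, hW⟩ := WeilExtLib.exists_integral_nhd s ⊤ trivial
  obtain ⟨U, hU, hsU, hUW⟩ := exists_isAffineOpen_mem_and_subset (x := s) (U := W) hsW
  refine ⟨U, hU, hsU, ?_⟩
  haveI : Nonempty U := ⟨⟨s, hsU⟩⟩
  haveI : IsNoetherianRing Γ(S, U) := IsLocallyNoetherian.component_noetherian ⟨U, hU⟩
  haveI : IsIntegral U.toScheme := by
    haveI := hW
    haveI : Nonempty U.toScheme := ⟨⟨s, hsU⟩⟩
    haveI : IsOpenImmersion (S.homOfLE hUW) := inferInstance
    exact isIntegral_of_isOpenImmersion (S.homOfLE hUW)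
  have hUn : Pi1.IsNormalScheme U.toScheme := fun u =>
    (Unram17Lib.normal_congr (U.stalkIso u).commRingCatIsoToRingEquiv).2 (hS _)
  haveI : IsAffine U.toScheme := hU
  haveI : IsDomain Γ(S, U) := U.topIso.commRingCatIsoToRingEquiv.symm.toMulEquiv.isDomain _
  haveI : IsIntegrallyClosed Γ(S, U) := by
    haveI : Nonempty (⊤ : U.toScheme.Opens) := ⟨⟨⟨s, hsU⟩, trivial⟩⟩
    haveI := SweepSix.NormSect.isIntegrallyClosed_of_stalk (isAffineOpen_top U.toScheme) hUn
    exact IsIntegrallyClosed.of_equiv U.topIso.commRingCatIsoToRingEquiv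
  letI : Algebra Γ(S, U) Γ(X, f ⁻¹ᵁ U) := (f.app U).hom.toAlgebra
  obtain ⟨t, htf, ht⟩ := isCompact_and_isOpen_iff_finite_and_eq_biUnion_affineOpens.1
    ⟨(f.isCompact_preimage hU.isCompact), (f ⁻¹ᵁ U).2⟩
  haveI : Finite t := htf.to_subtype
  have hle : ∀ V : t, (V.1.1 : X.Opens) ≤ f ⁻¹ᵁ U := fun V => by
    intro y hy
    show y ∈ ((f ⁻¹ᵁ U : X.Opens) : Set X)
    rw [ht]
    exact Set.mem_biUnion V.2 hy
  letI : ∀ V : t, Algebra Γ(S, U) Γ(X, V.1.1) := fun V => (f.appLE U V.1.1 (hle V)).hom.toAlgebra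
  haveI : ∀ V : t, Algebra.Etale Γ(S, U) Γ(X, V.1.1) := fun V =>
    RingHom.etale_algebraMap.1 (f.etale_appLE hU V.1.2 (hle V))
  refine NormFinVarLib.finite_closure_of_injective_pi (fun V : t => Γ(X, V.1.1))
    (fun V => ⟨(X.presheaf.map (homOfLE (hle V)).op).hom, fun _ => rfl⟩) (fun x y h => ?_) (fun V => ?_)
  · refine X.IsSheaf.section_ext ?_
    intro p hp
    have hp' : p ∈ ((f ⁻¹ᵁ U : X.Opens) : Set X) := hp
    rw [ht] at hp'
    obtain ⟨V, hV, hpV⟩ := Set.mem_iUnion₂.1 hp'
    exact ⟨V.1, hle ⟨V, hV⟩, hpV, h ⟨V, hV⟩⟩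
  exact finite_closure_etale _ _

end NeronNormLib
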